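/-
Certificate data of a coset enumeration.
-/
import Cfsg.Agent.Lib.CosetEnum.Fi23Z.Data

set_option autoImplicit false
set_option maxRecDepth 1000000

namespace CfsgLib.CosetEnum.Fi23Z

open CfsgLib.CosetEnum

/-- Completion of the rows from 0. -/
def rows0 : List (List ℕ) := [[0x37600000002, 0x37700001002, 0x37800002002, 0x37900003002, 0x37a00004002, 0x37b00005002, 0x37c00006002, 0x37d00007002, 0x37e00008002, 0x39b00009002]]

theorem rows0_ok : okRows data table 924 0 rows0 = true := by decide +kernel

theorem rows0_len : rows0.length = 1 := by decide +kernel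

end CfsgLib.CosetEnum.Fi23Z
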